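import Mathlib.AlgebraicGeometry.Limits
import Mathlib.AlgebraicGeometry.Morphisms.QuasiCompact
import Mathlib.AlgebraicGeometry.Morphisms.QuasiSeparated
import Mathlib.Data.Set.Card
import Mathlib.Data.List.GetD

/-!
Compatible finite affine Zariski coverings of an inverse system of qcqs schemes over a cofinite
partially ordered set.
-/

universe u v

open CategoryTheory CategoryTheory.Limits AlgebraicGeometry TopologicalSpace Opposite

namespace Groth.Agent.L24.CofinCover

variable {Λ : Type v} [PartialOrder Λ] (hΛ : ∀ l : Λ, (Set.Iic l).Finite) (X : Λᵒᵖ ⥤ Scheme.{u})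

abbrev tr {m l : Λ} (h : m ≤ l) : X.obj (op l) ⟶ X.obj (op m) := X.map (homOfLE h).op

theorem tr_comp {k m l : Λ} (h : m ≤ l) (h' : k ≤ m) : tr X h ≫ tr X h' = tr X (h'.trans h) :=
  (X.map_comp _ _).symm

theorem tr_tr {k m l : Λ} (h : m ≤ l) (h' : k ≤ m) (x : X.obj (op l)) :
    tr X h' (tr X h x) = tr X (h'.trans h) x := by
  rw [← Scheme.Hom.comp_apply, tr_comp]

theorem tr_refl (l : Λ) : tr X (le_refl l) = 𝟙 _ := X.map_id _

/-- Restriction of an index. -/
abbrev restr {m l : Λ} (h : m ≤ l) (σ : Set.Iic l → ℕ) : Set.Iic m → ℕ :=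
  fun p => σ ⟨p.1, p.2.trans h⟩

/-- The value at the top. -/
abbrev top {l : Λ} (σ : Set.Iic l → ℕ) : ℕ := σ ⟨l, le_refl l⟩

include hΛ in
theorem finite_Iio (l : Λ) : Finite {m : Λ // m < l} :=
  ((hΛ l).subset fun _ h => le_of_lt h).to_subtype

include hΛ in
theorem wf : WellFounded ((· < ·) : Λ → Λ → Prop) :=
  Subrelation.wf (fun {_ b} h => Set.ncard_lt_ncard (Set.Iic_ssubset_Iic.2 h) (hΛ b))
    (measure fun l : Λ => (Set.Iic l).ncard).wf

theorem exists_list {Z : Scheme.{u}} (U : Z.Opens) (hU : IsCompact (U : Set Z)) :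
    ∃ L : List Z.Opens, (∀ V ∈ L, IsAffineOpen V) ∧ ∀ x, x ∈ U ↔ ∃ V ∈ L, x ∈ V := by
  obtain ⟨s, hs, hU'⟩ := isCompact_and_isOpen_iff_finite_and_eq_biUnion_affineOpens.mp ⟨hU, U.2⟩
  refine ⟨hs.toFinset.toList.map Subtype.val, fun V hV => ?_, fun x => ?_⟩
  · obtain ⟨W, -, rfl⟩ := List.mem_map.1 hV
    exact W.2
  · rw [← SetLike.mem_coe, hU']
    simp

open Classical in
/-- A finite affine cover of a compact open. -/
noncomputable def coverList {Z : Scheme.{u}} (U : Z.Opens) : List Z.Opens :=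
  if h : IsCompact (U : Set Z) then (exists_list U h).choose else []

theorem mem_coverList {Z : Scheme.{u}} {U : Z.Opens} {V : Z.Opens} (h : V ∈ coverList U) :
    IsAffineOpen V ∧ V ≤ U := by
  unfold coverList at h
  split at h
  · next hc =>
    obtain ⟨h1, h2⟩ := (exists_list U hc).choose_spec
    exact ⟨h1 V h, fun x hx => (h2 x).2 ⟨V, h, hx⟩⟩
  · simp at h

theorem exists_getD {Z : Scheme.{u}} {U : Z.Opens} (hc : IsCompact (U : Set Z)) {x : Z} (hx : x ∈ U) :
    ∃ k, x ∈ (coverList U).getD k ⊥ := by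
  obtain ⟨V, hV, hxV⟩ := ((exists_list U hc).choose_spec.2 x).1 hx
  obtain ⟨k, hk, rfl⟩ := List.mem_iff_getElem.1 hV
  refine ⟨k, ?_⟩
  unfold coverList
  rw [dif_pos hc, List.getD_eq_getElem _ _ hk]
  exact hxV

theorem getD_prop {Z : Scheme.{u}} (U : Z.Opens) (k : ℕ) :
    IsAffineOpen ((coverList U).getD k ⊥) ∧ (coverList U).getD k ⊥ ≤ U := by
  by_cases hk : k < (coverList U).length
  · rw [List.getD_eq_getElem _ _ hk]
    exact mem_coverList (List.getElem_mem hk)
  · rw [List.getD_eq_default _ _ (Nat.le_of_not_lt hk)]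
    exact ⟨isAffineOpen_bot _, bot_le⟩

/-- Points all of whose images lie in the given opens. -/
def inter (l : Λ) (U : ∀ m : {m : Λ // m < l}, (X.obj (op m.1)).Opens) : (X.obj (op l)).Opens :=
  ⟨⋂ m : {m : Λ // m < l}, (tr X m.2.le) ⁻¹' (U m : Set (X.obj (op m.1))), by
    haveI := finite_Iio hΛ l
    exact isOpen_iInter_of_finite fun m => (U m).2.preimage (tr X m.2.le).continuous⟩

theorem mem_inter {l : Λ} {U : ∀ m : {m : Λ // m < l}, (X.obj (op m.1)).Opens} {x : X.obj (op l)} :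
    x ∈ inter hΛ X l U ↔ ∀ m : {m : Λ // m < l}, tr X m.2.le x ∈ U m :=
  Set.mem_iInter

/-- The affine opens, by recursion. -/
noncomputable def B : ∀ l : Λ, (Set.Iic l → ℕ) → (X.obj (op l)).Opens :=
  (wf hΛ).fix fun l B σ =>
    (coverList (inter hΛ X l fun m => B m.1 m.2 (restr m.2.le σ))).getD (top σ) ⊥

theorem B_eq (l : Λ) (σ : Set.Iic l → ℕ) : B hΛ X l σ =
    (coverList (inter hΛ X l fun m => B hΛ X m.1 (restr m.2.le σ))).getD (top σ) ⊥ := by
  conv_lhs => rw [B, WellFounded.fix_eq]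
  rfl

theorem B_affine (l : Λ) (σ : Set.Iic l → ℕ) : IsAffineOpen (B hΛ X l σ) := by
  rw [B_eq]
  exact (getD_prop _ _).1

theorem B_le {m l : Λ} (h : m ≤ l) (σ : Set.Iic l → ℕ) :
    B hΛ X l σ ≤ tr X h ⁻¹ᵁ B hΛ X m (restr h σ) := by
  rcases eq_or_lt_of_le h with rfl | hlt
  · intro x hx
    show tr X (le_refl m) x ∈ B hΛ X m σ
    rw [tr_refl]
    exact hx
  · intro x hx
    rw [B_eq] at hx
    exact (mem_inter hΛ X).1 ((getD_prop _ _).2 hx) ⟨m, hlt⟩

variable (hqc : ∀ l : Λ, CompactSpace ↥(X.obj (op l))) (hqs : ∀ l : Λ, QuasiSeparatedSpace ↥(X.obj (op l)))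

include hqc hqs in
theorem isCompact_inter (l : Λ) (U : ∀ m : {m : Λ // m < l}, (X.obj (op m.1)).Opens)
    (hU : ∀ m, IsAffineOpen (U m)) : IsCompact (inter hΛ X l U : Set (X.obj (op l))) := by
  classical
  haveI := finite_Iio hΛ l
  haveI := hqc l
  haveI := hqs l
  haveI := Fintype.ofFinite {m : Λ // m < l}
  suffices H : ∀ s : Finset {m : Λ // m < l},
      IsOpen (⋂ m ∈ s, (tr X m.2.le) ⁻¹' (U m : Set (X.obj (op m.1)))) ∧
        IsCompact (⋂ m ∈ s, (tr X m.2.le) ⁻¹' (U m : Set (X.obj (op m.1)))) by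
    have := (H Finset.univ).2
    simpa [inter] using this
  intro s
  induction s using Finset.induction_on with
  | empty => simpa using isCompact_univ
  | insert a s ha ih =>
    haveI := hqs a.1
    haveI : QuasiCompact (tr X a.2.le) := quasiCompact_of_compactSpace _
    have h1 : IsOpen ((tr X a.2.le) ⁻¹' (U a : Set (X.obj (op a.1)))) :=
      (U a).2.preimage (tr X a.2.le).continuous
    rw [Finset.set_biInter_insert]
    exact ⟨h1.inter ih.1, QuasiSeparatedSpace.inter_isCompact _ _ h1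
      (Scheme.Hom.isCompact_preimage _ (hU a).isCompact) ih.1 ih.2⟩

theorem finite_good (l : Λ) : {σ : Set.Iic l → ℕ | (B hΛ X l σ : Set (X.obj (op l))).Nonempty}.Finite := by
  induction l using (wf hΛ).induction with
  | _ l ih =>
    haveI := finite_Iio hΛ l
    classical
    have hpi : (Set.pi Set.univ fun m : {m : Λ // m < l} =>
        {σ : Set.Iic m.1 → ℕ | (B hΛ X m.1 σ : Set (X.obj (op m.1))).Nonempty}).Finite :=
      Set.Finite.pi fun m => ih m.1 m.2
    set N : ℕ := Finset.sup hpi.toFinset fun φ : (∀ m : {m : Λ // m < l}, Set.Iic m.1 → ℕ) =>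
      (coverList (inter hΛ X l fun m => B hΛ X m.1 (φ m))).length with hN
    refine Set.Finite.of_finite_image (f := fun σ : Set.Iic l → ℕ =>
      ((fun m : {m : Λ // m < l} => restr m.2.le σ), top σ)) ?_ ?_
    · refine (hpi.prod (Set.finite_lt_nat N)).subset ?_
      rintro _ ⟨σ, ⟨x, hx⟩, rfl⟩
      have hmem : (fun m : {m : Λ // m < l} => restr m.2.le σ) ∈ hpi.toFinset := by
        simp only [Set.Finite.mem_toFinset, Set.mem_pi, Set.mem_univ, forall_true_left]
        exact fun m => ⟨_, B_le hΛ X m.2.le σ hx⟩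
      refine ⟨hpi.mem_toFinset.1 hmem, ?_⟩
      refine lt_of_lt_of_le ?_ (Finset.le_sup (f := fun φ : (∀ m : {m : Λ // m < l}, Set.Iic m.1 → ℕ) =>
        (coverList (inter hΛ X l fun m => B hΛ X m.1 (φ m))).length) hmem)
      by_contra hk
      rw [B_eq, List.getD_eq_default _ _ (Nat.le_of_not_lt hk)] at hx
      exact hx
    · intro σ _ τ _ h
      simp only [Prod.mk.injEq] at h
      funext ⟨p, hp⟩
      rcases eq_or_lt_of_le (show p ≤ l from hp) with rfl | hlt
      · exact h.2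
      · exact congr_fun (congr_fun h.1 ⟨p, hlt⟩) ⟨p, le_refl p⟩

include hqc hqs in
theorem exists_mem (l : Λ) (x : X.obj (op l)) : ∃ σ, x ∈ B hΛ X l σ := by
  classical
  let g : Λ → ℕ := (wf hΛ).fix fun m g' => Classical.epsilon fun k => ∀ h : m ≤ l,
    tr X h x ∈ (coverList (inter hΛ X m fun p => B hΛ X p.1
      (fun q => g' q.1 (lt_of_le_of_lt q.2 p.2)))).getD k ⊥
  suffices H : ∀ m, ∀ h : m ≤ l, tr X h x ∈ B hΛ X m (fun q => g q.1) by
    exact ⟨fun q => g q.1, by simpa [tr_refl] using H l le_rfl⟩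
  intro m
  induction m using (wf hΛ).induction with
  | _ m ih =>
    intro h
    have hx : tr X h x ∈ inter hΛ X m fun p => B hΛ X p.1 (fun q => g q.1) :=
      (mem_inter hΛ X).2 fun p => by rw [tr_tr]; exact ih p.1 p.2 _
    obtain ⟨k, hk⟩ := exists_getD
      (isCompact_inter hΛ X hqc hqs m _ fun p => B_affine hΛ X _ _) hx
    rw [B_eq]
    have hg : g m = Classical.epsilon fun k => ∀ h : m ≤ l, tr X h x ∈
        (coverList (inter hΛ X m fun p => B hΛ X p.1 (fun q => g q.1))).getD k ⊥ :=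
      (wf hΛ).fix_eq _ m
    show tr X h x ∈ (coverList _).getD (g m) ⊥
    rw [hg]
    exact Classical.epsilon_spec
      (p := fun k => ∀ h : m ≤ l, tr X h x ∈
        (coverList (inter hΛ X m fun p => B hΛ X p.1 (fun q => g q.1))).getD k ⊥) ⟨k, fun _ => hk⟩ h

theorem ι_ext {T W : Scheme.{u}} {ι : Type u} (U : ι → W.Opens) {i j : ι} (h : i = j)
    (a : T ⟶ (U i : Scheme.{u})) (b : T ⟶ (U j : Scheme.{u})) (e : a ≫ (U i).ι = b ≫ (U j).ι) :
    a ≫ Sigma.ι (fun k => (U k : Scheme.{u})) i = b ≫ Sigma.ι (fun k => (U k : Scheme.{u})) j := by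
  subst h
  rw [(cancel_mono _).1 e]

/-- The index type. -/
abbrev Good (l : Λ) := {σ : Set.Iic l → ℕ // (B hΛ X l σ : Set (X.obj (op l))).Nonempty}

include hΛ in
theorem finite_Good (l : Λ) : Finite (Good hΛ X l) := (finite_good hΛ X l).to_subtype

/-- Index type, in the universe of the schemes. -/
abbrev J (l : Λ) : Type u := ULift.{u} (Fin (Nat.card (Good hΛ X l)))

/-- The numbering of the index type. -/
noncomputable def e (l : Λ) : J hΛ X l ≃ Good hΛ X l :=
  haveI := finite_Good hΛ X l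
  Equiv.ulift.trans (Finite.equivFin _).symm

noncomputable def restrJ {m l : Λ} (h : m ≤ l) (i : J hΛ X l) : J hΛ X m :=
  (e hΛ X m).symm ⟨restr h (e hΛ X l i).1,
    (e hΛ X l i).2.elim fun _ hx => ⟨_, B_le hΛ X h _ hx⟩⟩

theorem restrJ_spec {m l : Λ} (h : m ≤ l) (i : J hΛ X l) :
    (e hΛ X m (restrJ hΛ X h i)).1 = restr h (e hΛ X l i).1 := by
  rw [restrJ, Equiv.apply_symm_apply]

/-- The opens indexed by `J`. -/
noncomputable abbrev piece (l : Λ) (i : J hΛ X l) : (X.obj (op l)).Opens := B hΛ X l (e hΛ X l i).1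

noncomputable def pieceMap {m l : Λ} (h : m ≤ l) (i : J hΛ X l) :
    (piece hΛ X l i : Scheme.{u}) ⟶ (piece hΛ X m (restrJ hΛ X h i) : Scheme.{u}) :=
  (tr X h).resLE _ _ (by
    show piece hΛ X l i ≤ tr X h ⁻¹ᵁ B hΛ X m _
    rw [restrJ_spec]
    exact B_le hΛ X h _)

/-- The covering system. -/
noncomputable def Y : Λᵒᵖ ⥤ Scheme.{u} where
  obj l := ∐ fun i : J hΛ X l.unop => (piece hΛ X l.unop i : Scheme.{u})
  map {l m} g := Sigma.desc fun i => pieceMap hΛ X (leOfHom g.unop) i ≫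
    Sigma.ι (fun j : J hΛ X m.unop => (piece hΛ X m.unop j : Scheme.{u}))
      (restrJ hΛ X (leOfHom g.unop) i)
  map_id l := by
    refine Sigma.hom_ext _ _ fun i => ?_
    rw [Sigma.ι_desc, Category.comp_id]
    refine (ι_ext _ ?_ _ (𝟙 _) ?_).trans (Category.id_comp _)
    · exact (e hΛ X _).injective (Subtype.ext (restrJ_spec hΛ X _ i))
    · rw [pieceMap, Scheme.Hom.resLE_comp_ι, Category.id_comp, tr_refl, Category.comp_id]
  map_comp {a b c} f g := by
    refine Sigma.hom_ext _ _ fun i => ?_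
    rw [Sigma.ι_desc_assoc, Sigma.ι_desc, Category.assoc, Sigma.ι_desc, ← Category.assoc]
    refine ι_ext _ ?_ _ _ ?_
    · refine (e hΛ X _).injective (Subtype.ext ?_)
      rw [restrJ_spec, restrJ_spec, restrJ_spec]
    · simp only [pieceMap, Category.assoc, Scheme.Hom.resLE_comp_ι, Scheme.Hom.resLE_comp_ι_assoc]
      rw [← tr_comp X (leOfHom f.unop) (leOfHom g.unop)]

/-- The covering map. -/
noncomputable def π : Y hΛ X ⟶ X where
  app l := Sigma.desc fun i => (piece hΛ X l.unop i).ι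
  naturality {l m} g := by
    refine Sigma.hom_ext _ _ fun i => ?_
    simp only [Y, Sigma.ι_desc_assoc, Category.assoc, Sigma.ι_desc, pieceMap, Scheme.Hom.resLE_comp_ι]
    rfl

end Groth.Agent.L24.CofinCover
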